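import Cfsg.Agent.BrauerPairs.Nil.Inner
import Cfsg.Agent.BlockVal.RegGen
import Cfsg.Agent.BlocksChar.Codegree

/-!
Nilpotent blocks have one Brauer character and as many characters as their defect group.
-/

set_option maxHeartbeats 800000
set_option linter.unusedSectionVars false
set_option linter.style.haveILetI false

namespace Cfsg.Agent.BrauerPairs.Nil

open MonoidAlgebra Cfsg
open Cfsg.Agent.BlkChar.Contrib
open scoped ComplexConjugate Classical

universe u

variable {p : ℕ} [Fact p.Prime] {M : Ideal AlgInt} [M.IsPrime] [CharP (Block.ResF M) p]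

section

variable {G : Type u} [Group G] [Fintype G]

theorem exists_scalar (φ : IrrCharacter G) {z : G} (hz : z ∈ Subgroup.center G) :
    ∃ w : ℂ, w * conj w = 1 ∧ (∀ g, (φ : G → ℂ) (z * g) = w * (φ : G → ℂ) g) ∧
      w = (φ : G → ℂ) z / (φ : G → ℂ) 1 := by
  obtain ⟨w, h1, h2, h3⟩ := Char.irr_mul_center φ.2 hz
  refine ⟨w, ?_, h3, ?_⟩
  · rw [Complex.mul_conj, Complex.normSq_eq_norm_sq,
      Complex.norm_eq_one_of_pow_eq_one h1 (orderOf_pos z).ne']
    simp
  · rw [h2, mul_div_assoc, div_self (Char.irr_one_ne_zero φ.2), mul_one]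

theorem exists_nilData (hM : IsPModular p M) (B : Blk M G) (hnil : IsNilpotentBlock p M B.1)
    {P : Subgroup G} (hP : IsDefectGroup p M B.1 P) :
    ∃ D : NilData p M G, D.B = B ∧ D.P = P := by
  obtain ⟨e, he⟩ := exists_maxPair_of_isDef (S := pairSys M G) (isDef_of_isDefectGroup hP)
  exact ⟨⟨B, P, e, hM, (isMaximalBrauerPair_iff B ⟨P, e⟩).2 he, hnil⟩, rfl, rfl⟩

/-- A function orthogonal to a form of rank one is zero. -/
theorem regSum_eq_zero_of_kernel {ι : Type*} (s : Finset ι) (f : ι → G → ℂ) (g : G → ℂ)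
    (h : ∑ x ∈ Finset.univ.filter (fun x : G => ¬ p ∣ orderOf x),
      ∑ y ∈ Finset.univ.filter (fun y : G => ¬ p ∣ orderOf y),
        conj (g x) * g y * ∑ i ∈ s, f i x * conj (f i y) = 0) :
    ∀ i ∈ s, Brauer.regSum p g (f i) = 0 := by
  have h1 : ∑ i ∈ s, (Complex.normSq (Brauer.regSum p g (f i)) : ℂ) = 0 := by
    rw [← h]
    simp only [Finset.mul_sum]
    rw [eq_comm, Finset.sum_congr rfl fun x _ => Finset.sum_comm, Finset.sum_comm]
    refine Finset.sum_congr rfl fun i _ => ?_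
    rw [Complex.normSq_eq_conj_mul_self]
    simp only [Brauer.regSum, map_sum, map_mul, Complex.conj_conj, Finset.sum_mul_sum]
    exact Finset.sum_congr rfl fun x _ => Finset.sum_congr rfl fun y _ => by ring
  rw [← Complex.ofReal_sum, Complex.ofReal_eq_zero,
    Finset.sum_eq_zero_iff_of_nonneg fun i _ => Complex.normSq_nonneg _] at h1
  exact fun i hi => Complex.normSq_eq_zero.1 (h1 i hi)

theorem regSum_self_eq_zero {g : G → ℂ} (h : Brauer.regSum p g g = 0) {y : G}
    (hy : ¬ p ∣ orderOf y) : g y = 0 := by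
  have h1 : ∑ x ∈ Finset.univ.filter (fun x : G => ¬ p ∣ orderOf x),
      (Complex.normSq (g x) : ℂ) = 0 := by
    rw [← h]
    exact Finset.sum_congr rfl fun x _ => (Complex.mul_conj _).symm
  rw [← Complex.ofReal_sum, Complex.ofReal_eq_zero,
    Finset.sum_eq_zero_iff_of_nonneg fun i _ => Complex.normSq_nonneg _] at h1
  exact Complex.normSq_eq_zero.1 (h1 y (Finset.mem_filter.2 ⟨Finset.mem_univ _, hy⟩))

theorem sum_mult_eq_zero {Z : Subgroup G} [Fintype Z] {f : Z → ℂ}
    (hf : ∀ a b, f (a * b) = f a * f b) {z₀ : Z} (h : f z₀ ≠ 1) : ∑ z, f z = 0 := by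
  have h1 : f z₀ * ∑ z, f z = ∑ z, f z := by
    rw [Finset.mul_sum]
    exact Fintype.sum_equiv (Equiv.mulLeft z₀) _ _ fun z => (hf z₀ z).symm
  have h2 : (f z₀ - 1) * ∑ z, f z = 0 := by rw [sub_mul, h1, one_mul, sub_self]
  exact (mul_eq_zero.1 h2).resolve_left (sub_ne_zero.2 h)

namespace NilData

variable (D : NilData p M G)

theorem regular_of_prop_one {ψ χ : IrrCharacter G} (hψ : ψ ∈ D.B.1) (hχ : χ ∈ D.B.1) {a : ℂ}
    (h : D.Prop' 1 (ψ : G → ℂ) (χ : G → ℂ) a) {y : G} (hy : ¬ p ∣ orderOf y) :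
    (ψ : G → ℂ) y = a * (χ : G → ℂ) y := by
  have h1 : y ∈ Subgroup.centralizer ((D.pair 1).1 : Set G) := by
    show y ∈ Subgroup.centralizer (Subgroup.zpowers ((1 : D.P) : G) : Set G)
    rw [Brauer.centralizer_zpowers_eq, Subgroup.mem_centralizer_singleton_iff]
    simp
  have h2 := h y h1 hy
  rw [D.phi_central 1 (by simp) hψ hy, D.phi_central 1 (by simp) hχ hy] at h2
  simpa using h2

theorem singular_mul {z y : G} (hz : z ∈ D.P) (hzc : z ∈ Subgroup.center G) (hz1 : z ≠ 1)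
    (hy : ¬ p ∣ orderOf y) : p ∣ orderOf (z * y) := by
  have hp : p.Prime := Fact.out
  obtain ⟨k, hk⟩ := D.exists_orderOf ⟨z, hz⟩
  simp only at hk
  have hk0 : k ≠ 0 := by
    rintro rfl
    exact hz1 (orderOf_eq_one_iff.1 (by rw [hk, pow_zero]))
  have hcop : (orderOf z).Coprime (orderOf y) := by
    rw [hk]
    exact Nat.Coprime.pow_left k ((hp.coprime_iff_not_dvd).2 hy)
  rw [Commute.orderOf_mul_eq_mul_orderOf_of_coprime (Subgroup.mem_center_iff.1 hzc y).symm hcop,
    hk]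
  exact dvd_mul_of_dvd_left (dvd_pow_self p hk0) _

/-- If the noncentral local blocks have one Brauer character, so does the block. -/
theorem exists_regular_prop_of_local
    (hloc : ∀ u : D.P, (u : G) ∉ Subgroup.center G → blockRank p (D.pair u).2.1 = 1)
    {χ : IrrCharacter G} (hχ : χ ∈ D.B.1) (h0 : blockHeight p D.B.1 (χ : G → ℂ) = 0)
    {ψ' : IrrCharacter G} (hψ' : ψ' ∈ D.B.1) :
    ∃ c : ℂ, ∀ y : G, ¬ p ∣ orderOf y → (ψ' : G → ℂ) y = c * (χ : G → ℂ) y := by
  set Z := D.P ⊓ Subgroup.center G with hZ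
  haveI := Fintype.ofFinite Z
  let w : IrrCharacter G → G → ℂ := fun φ z => (φ : G → ℂ) z / (φ : G → ℂ) 1
  have hw : ∀ φ : IrrCharacter G, ∀ z ∈ Z, w φ z * conj (w φ z) = 1 ∧
      ∀ g, (φ : G → ℂ) (z * g) = w φ z * (φ : G → ℂ) g := by
    intro φ z hz
    obtain ⟨v, hv1, hv2, hv3⟩ := exists_scalar φ hz.2
    simp only [w, ← hv3]
    exact ⟨hv1, hv2⟩
  let Bω : IrrCharacter G → Prop := fun φ => ∀ z ∈ Z, w φ z = w χ z
  have hR : ∀ φ, Bω φ → D.Rel Z χ φ := by
    intro φ hφ
    refine ⟨inf_le_right, fun u hu => ?_, fun z hz => ?_⟩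
    · exact D.exists_prop_of_rank_one u (hloc u fun hc => hu ⟨u.2, hc⟩)
        (D.A_self_eq_one hχ h0 u) φ
    · refine ⟨w χ z, (hw χ z hz).1, fun g => ?_, (hw χ z hz).2⟩
      rw [(hw φ z hz).2, hφ z hz]
  have hprop : ∀ φ ∈ D.B.1, Bω φ → ∃ a : ℂ, ∀ y : G, ¬ p ∣ orderOf y →
      (φ : G → ℂ) y = a * (χ : G → ℂ) y := by
    intro φ hφ hω
    obtain ⟨η, s, -, -, hP⟩ := D.exists_irr hχ h0 hφ (hR φ hω)
    exact ⟨_, fun y hy => D.regular_of_prop_one hφ hχ (hP 1) hy⟩
  set s := Finset.univ.filter (fun φ : IrrCharacter G => φ ∈ D.B.1) with hs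
  set K : G → G → ℂ := fun x y => ∑ φ ∈ s, (φ : G → ℂ) x * conj ((φ : G → ℂ) y) with hK
  have hKeq : ∀ x y : G, ¬ p ∣ orderOf x → ¬ p ∣ orderOf y →
      K x y = (Nat.card Z : ℂ) *
        ∑ φ ∈ s.filter Bω, (φ : G → ℂ) x * conj ((φ : G → ℂ) y) := by
    intro x y hx hy
    have h1 : ∑ z : Z, w χ z * ∑ φ ∈ s, (φ : G → ℂ) x * conj ((φ : G → ℂ) ((z : G) * y)) =
        K x y := by
      rw [Finset.sum_eq_single (1 : Z)]
      · simp only [w, OneMemClass.coe_one, one_mul, div_self (Char.irr_one_ne_zero χ.2), hK]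
      · intro z _ hz
        have h := Brauer.weakOrth_of_integral D.isPModular D.B.1
          (Block.blockCoeff_memLocalRing D.B.2) hx
          (D.singular_mul z.2.1 z.2.2 (fun h => hz (Subtype.ext h)) hy)
        rw [finsum_mem_eq_toFinset_sum] at h
        rw [hs, show Finset.univ.filter (fun φ : IrrCharacter G => φ ∈ D.B.1) = D.B.1.toFinset by
          ext; simp, h, mul_zero]
      · simp
    rw [← h1]
    simp only [Finset.mul_sum]
    rw [Finset.sum_comm]
    conv_lhs => rw [← Finset.sum_filter_add_sum_filter_not s Bω]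
    rw [Finset.sum_eq_zero (s := s.filter fun φ => ¬ Bω φ) fun φ hφ => ?_, add_zero]
    · refine Finset.sum_congr rfl fun φ hφ => ?_
      rw [Finset.sum_congr rfl fun (z : Z) _ => show w χ z * ((φ : G → ℂ) x *
          conj ((φ : G → ℂ) ((z : G) * y))) = (φ : G → ℂ) x * conj ((φ : G → ℂ) y) by
        rw [(hw φ z z.2).2, map_mul (starRingEnd ℂ), ← (Finset.mem_filter.1 hφ).2 z z.2]
        linear_combination ((φ : G → ℂ) x * conj ((φ : G → ℂ) y)) * (hw φ z z.2).1]
      rw [Finset.sum_const, Finset.card_univ, Nat.card_eq_fintype_card, nsmul_eq_mul]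
    · obtain ⟨-, hnω⟩ := Finset.mem_filter.1 hφ
      simp only [Bω] at hnω
      push Not at hnω
      obtain ⟨z₀, hz₀, hne⟩ := hnω
      rw [Finset.sum_congr rfl fun (z : Z) _ => show w χ z * ((φ : G → ℂ) x *
          conj ((φ : G → ℂ) ((z : G) * y))) =
          (w χ z * conj (w φ z)) * ((φ : G → ℂ) x * conj ((φ : G → ℂ) y)) by
        rw [(hw φ z z.2).2, map_mul (starRingEnd ℂ)]
        ring, ← Finset.sum_mul,
        sum_mult_eq_zero (f := fun z : Z => w χ z * conj (w φ z)) (z₀ := ⟨z₀, hz₀⟩) ?_ ?_,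
        zero_mul]
      · intro a b
        have hmul : ∀ θ : IrrCharacter G, w θ ((a * b : Z) : G) = w θ a * w θ b := fun θ => by
          simp only [w, Subgroup.coe_mul]
          rw [(hw θ a a.2).2, mul_div_assoc]
        rw [hmul, hmul, map_mul (starRingEnd ℂ)]
        ring
      · intro h
        apply hne
        linear_combination (w χ z₀) * (hw φ z₀ hz₀).1 - (w φ z₀) * h
  -- the part of `ψ'` orthogonal to `χ`
  set R := Brauer.regSum p (χ : G → ℂ) (χ : G → ℂ) with hRdef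
  set R' := Brauer.regSum p (ψ' : G → ℂ) (χ : G → ℂ) with hR'def
  set g : G → ℂ := fun y => R * (ψ' : G → ℂ) y - R' * (χ : G → ℂ) y with hgdef
  have hgχ : Brauer.regSum p g (χ : G → ℂ) = 0 := by
    have : Brauer.regSum p g (χ : G → ℂ) = R * Brauer.regSum p (ψ' : G → ℂ) (χ : G → ℂ) -
        R' * Brauer.regSum p (χ : G → ℂ) (χ : G → ℂ) := by
      simp only [Brauer.regSum, hgdef]
      rw [Finset.mul_sum, Finset.mul_sum, ← Finset.sum_sub_distrib]
      exact Finset.sum_congr rfl fun y _ => by ring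
    rw [this, ← hR'def, ← hRdef]; ring
  have hgω : ∀ φ ∈ s.filter Bω, Brauer.regSum p g (φ : G → ℂ) = 0 := by
    intro φ hφ
    obtain ⟨h1, h2⟩ := Finset.mem_filter.1 hφ
    obtain ⟨a, ha⟩ := hprop φ (Finset.mem_filter.1 h1).2 h2
    have : Brauer.regSum p g (φ : G → ℂ) = conj a * Brauer.regSum p g (χ : G → ℂ) := by
      simp only [Brauer.regSum, Finset.mul_sum]
      refine Finset.sum_congr rfl fun y hy => ?_
      rw [ha y (Finset.mem_filter.1 hy).2, map_mul (starRingEnd ℂ)]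
      ring
    rw [this, hgχ, mul_zero]
  have hker : ∑ x ∈ Finset.univ.filter (fun x : G => ¬ p ∣ orderOf x),
      ∑ y ∈ Finset.univ.filter (fun y : G => ¬ p ∣ orderOf y),
        conj (g x) * g y * ∑ φ ∈ s, (φ : G → ℂ) x * conj ((φ : G → ℂ) y) = 0 := by
    have h1 : ∀ φ ∈ s.filter Bω, ∑ x ∈ Finset.univ.filter (fun x : G => ¬ p ∣ orderOf x),
        ∑ y ∈ Finset.univ.filter (fun y : G => ¬ p ∣ orderOf y),
          conj (g x) * g y * ((φ : G → ℂ) x * conj ((φ : G → ℂ) y)) = 0 := by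
      intro φ hφ
      have h2 : ∑ x ∈ Finset.univ.filter (fun x : G => ¬ p ∣ orderOf x),
          ∑ y ∈ Finset.univ.filter (fun y : G => ¬ p ∣ orderOf y),
            conj (g x) * g y * ((φ : G → ℂ) x * conj ((φ : G → ℂ) y)) =
          conj (Brauer.regSum p g (φ : G → ℂ)) * Brauer.regSum p g (φ : G → ℂ) := by
        simp only [Brauer.regSum, map_sum, map_mul, Complex.conj_conj]
        rw [Finset.sum_mul_sum]
        exact Finset.sum_congr rfl fun x _ => Finset.sum_congr rfl fun y _ => by ring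
      rw [h2, hgω φ hφ, mul_zero]
    rw [Finset.sum_congr rfl fun x hx => Finset.sum_congr rfl fun y hy => by
      rw [show ∑ φ ∈ s, (φ : G → ℂ) x * conj ((φ : G → ℂ) y) = K x y from rfl,
        hKeq x y (Finset.mem_filter.1 hx).2 (Finset.mem_filter.1 hy).2, mul_left_comm,
        Finset.mul_sum]]
    rw [Finset.sum_congr rfl fun x _ => (Finset.mul_sum _ _ _).symm, ← Finset.mul_sum,
      Finset.sum_congr rfl fun x _ => Finset.sum_comm, Finset.sum_comm,
      Finset.sum_eq_zero h1, mul_zero]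
  have hgψ := regSum_eq_zero_of_kernel s (fun φ => (φ : G → ℂ)) g hker ψ'
    (Finset.mem_filter.2 ⟨Finset.mem_univ _, hψ'⟩)
  have hgg : Brauer.regSum p g g = 0 := by
    have : Brauer.regSum p g g = conj R * Brauer.regSum p g (ψ' : G → ℂ) -
        conj R' * Brauer.regSum p g (χ : G → ℂ) := by
      simp only [Brauer.regSum, hgdef]
      rw [Finset.mul_sum, Finset.mul_sum, ← Finset.sum_sub_distrib]
      refine Finset.sum_congr rfl fun y _ => ?_
      rw [map_sub, map_mul (starRingEnd ℂ), map_mul (starRingEnd ℂ)]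
      ring
    rw [this, hgψ, hgχ, mul_zero, mul_zero, sub_zero]
  have h1p : ¬ p ∣ orderOf (1 : G) := by simpa using (Fact.out : p.Prime).one_lt.ne'
  have hR0 : R ≠ 0 := fun h => Char.irr_one_ne_zero χ.2 (regSum_self_eq_zero h h1p)
  refine ⟨R' / R, fun y hy => ?_⟩
  have := regSum_self_eq_zero hgg hy
  simp only [hgdef, sub_eq_zero] at this
  rw [div_mul_eq_mul_div, eq_div_iff hR0, mul_comm, this]

theorem blockRank_eq_one_of_local
    (hloc : ∀ u : D.P, (u : G) ∉ Subgroup.center G → blockRank p (D.pair u).2.1 = 1) :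
    blockRank p D.B.1 = 1 := by
  obtain ⟨χ, hχ, h0⟩ := BlockVal.exists_height_zero (p := p) (Block.pBlock_nonempty D.B.2)
  have hne : pRegularPart p (χ : G → ℂ) ≠ 0 := by
    intro h
    have h1 := congrFun h 1
    have h2 : ¬ p ∣ orderOf (1 : G) := by simpa using (Fact.out : p.Prime).one_lt.ne'
    simp [pRegularPart, IsPRegular, Char.irr_one_ne_zero χ.2] at h1
    exact (Fact.out : p.Prime).one_lt.ne' h1
  have hspan : Submodule.span ℂ ((fun φ : IrrCharacter G => pRegularPart p (φ : G → ℂ)) '' D.B.1) =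
      Submodule.span ℂ {pRegularPart p (χ : G → ℂ)} := by
    refine le_antisymm (Submodule.span_le.2 ?_) (Submodule.span_mono
      (Set.singleton_subset_iff.2 ⟨χ, hχ, rfl⟩))
    rintro _ ⟨φ, hφ, rfl⟩
    obtain ⟨c, hc⟩ := D.exists_regular_prop_of_local hloc hχ h0 hφ
    refine Submodule.mem_span_singleton.2 ⟨c, funext fun y => ?_⟩
    by_cases hy : p ∣ orderOf y
    · simp [pRegularPart, IsPRegular, hy]
    · simp [pRegularPart, IsPRegular, hy, hc y hy]
  rw [blockRank, hspan, finrank_span_singleton hne]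

end NilData

end

/-- A nilpotent block has one Brauer character. -/
theorem blockRank_eq_one {G : Type u} [Group G] [Fintype G] (D : NilData p M G) :
    blockRank p D.B.1 = 1 := by
  suffices H : ∀ (n : ℕ) (G : Type u) [Group G] [Fintype G], Nat.card G = n →
      ∀ D : NilData p M G, blockRank p D.B.1 = 1 from H _ G rfl D
  intro n
  induction n using Nat.strong_induction_on with
  | _ n ih =>
  intro G _ _ hn D
  refine D.blockRank_eq_one_of_local fun u hu => ?_
  haveI := Fintype.ofFinite (Subgroup.centralizer ((D.pair u).1 : Set G))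
  have hlt : Nat.card (Subgroup.centralizer ((D.pair u).1 : Set G)) < n := by
    refine hn ▸ lt_of_le_of_ne (Subgroup.card_le_card_group _) fun he => hu ?_
    have htop := Subgroup.eq_top_of_card_eq _ he
    refine Subgroup.mem_center_iff.2 fun g => ?_
    have hg : g ∈ Subgroup.centralizer ((D.pair u).1 : Set G) := htop ▸ Subgroup.mem_top g
    exact (Subgroup.mem_centralizer_iff.1 hg _ (Subgroup.mem_zpowers (u : G))).symm
  have hnil := isNilpotentBlock_local D.nilpotent (D.pairOf u)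
  obtain ⟨c, hc⟩ := Block.exists_isDefectClass (D.pair u).2.2
  obtain ⟨S⟩ := (inferInstance : Nonempty (Sylow p
    (Subgroup.centralizer ({c} : Set (Subgroup.centralizer ((D.pair u).1 : Set G))))))
  obtain ⟨D', hD', -⟩ := exists_nilData D.isPModular (D.pair u).2 hnil ⟨c, hc, S, rfl⟩
  rw [← hD']
  exact ih _ hlt _ rfl D'

namespace NilData

variable {G : Type u} [Group G] [Fintype G] (D : NilData p M G)

theorem rel_bot {χ : IrrCharacter G} (hχ : χ ∈ D.B.1)
    (h0 : blockHeight p D.B.1 (χ : G → ℂ) = 0) {ψ : IrrCharacter G} (hψ : ψ ∈ D.B.1) :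
    D.Rel ⊥ χ ψ := by
  have hloc : ∀ u : D.P, blockRank p (D.pair u).2.1 = 1 := by
    intro u
    haveI := Fintype.ofFinite (Subgroup.centralizer ((D.pair u).1 : Set G))
    obtain ⟨c, hc⟩ := Block.exists_isDefectClass (D.pair u).2.2
    obtain ⟨S⟩ := (inferInstance : Nonempty (Sylow p
      (Subgroup.centralizer ({c} : Set (Subgroup.centralizer ((D.pair u).1 : Set G))))))
    obtain ⟨D', hD', -⟩ := exists_nilData D.isPModular (D.pair u).2
      (isNilpotentBlock_local D.nilpotent (D.pairOf u)) ⟨c, hc, S, rfl⟩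
    rw [← hD']
    exact blockRank_eq_one D'
  exact ⟨bot_le, fun u _ => D.exists_prop_of_rank_one u (hloc u) (D.A_self_eq_one hχ h0 u) ψ,
    fun z hz => ⟨1, by simp, by simp [Subgroup.mem_bot.1 hz], by simp [Subgroup.mem_bot.1 hz]⟩⟩

/-- The characters of the block are parametrized by those of the defect group. -/
theorem exists_equiv {χ : IrrCharacter G} (hχ : χ ∈ D.B.1)
    (h0 : blockHeight p D.B.1 (χ : G → ℂ) = 0) :
    ∃ Φ : D.B.1 ≃ IrrCharacter D.P, ∀ ψ : D.B.1, ∀ y : G, ¬ p ∣ orderOf y →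
      ((ψ : IrrCharacter G) : G → ℂ) y =
        (charDegree ((Φ ψ : IrrCharacter D.P) : D.P → ℂ) : ℂ) * (χ : G → ℂ) y := by
  choose η s hs hA hP using fun ψ : D.B.1 => D.exists_irr hχ h0 ψ.2 (D.rel_bot hχ h0 ψ.2)
  have hs2 : ∀ ψ, (s ψ : ℂ) * (s ψ : ℂ) = 1 := fun ψ => by
    rcases hs ψ with h | h <;> simp [h]
  have hinj : Function.Injective η := by
    intro ψ ψ' he
    by_contra hne
    have h1 : ∀ u, D.A u ((ψ : IrrCharacter G) : G → ℂ) ((ψ' : IrrCharacter G) : G → ℂ) =
        (s ψ : ℂ) * (s ψ' : ℂ) * ((η ψ : D.P → ℂ) u * conj ((η ψ : D.P → ℂ) u)) := by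
      intro u
      rw [D.A_eq_of_prop (hP ψ u), hA ψ u,
        D.A_swap u ((ψ' : IrrCharacter G) : G → ℂ) (χ : G → ℂ), hA ψ' u, ← he,
        map_mul (starRingEnd ℂ), map_intCast]
      ring
    have h2 := D.sum_A ψ.2 ψ'.2
    rw [if_neg fun h => hne (Subtype.ext h), Finset.sum_congr rfl fun u _ => h1 u, ← Finset.mul_sum,
      Char.sum_mul_conj_eq_card_mul_classInner, Char.classInner_irr_self (η ψ).2, mul_one] at h2
    rcases mul_eq_zero.1 h2 with h | h
    · rcases mul_eq_zero.1 h with h | h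
      · simpa [h] using hs2 ψ
      · simpa [h] using hs2 ψ'
    · exact Nat.card_pos.ne' (Nat.cast_eq_zero.1 h)
  have hdeg : ∀ ψ : D.B.1,
      D.A 1 ((ψ : IrrCharacter G) : G → ℂ) (χ : G → ℂ) = (charDegree (η ψ : D.P → ℂ) : ℂ) := by
    intro ψ
    have h1 := D.regular_of_prop_one ψ.2 hχ (hP ψ 1) (y := 1)
      (by simpa using (Fact.out : p.Prime).one_lt.ne')
    obtain ⟨a, ha, haeq⟩ := Char.irr_one_pos (ψ : IrrCharacter G).2
    obtain ⟨b, hb, hbeq⟩ := Char.irr_one_pos χ.2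
    obtain ⟨e, hee, heeq⟩ := Char.irr_one_pos (η ψ).2
    have hdeq : charDegree (η ψ : D.P → ℂ) = e := by rw [charDegree, heeq]; simp
    rw [hA ψ 1, heeq, haeq, hbeq] at h1
    rcases hs ψ with h | h
    · rw [hA ψ 1, h, hdeq, heeq, Int.cast_one, one_mul]
    · exfalso
      rw [h] at h1
      push_cast at h1
      have h2 : ((a + e * b : ℕ) : ℂ) = 0 := by push_cast; rw [h1]; ring
      have := Nat.cast_eq_zero.1 h2
      omega
  have hsq : ∑ ψ : D.B.1, charDegree (η ψ : D.P → ℂ) ^ 2 = Nat.card D.P := by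
    obtain ⟨K, hK0, hK⟩ := D.exists_exponent
    haveI : Fact (1 < p ^ K) := ⟨Nat.one_lt_pow hK0 (Fact.out : p.Prime).one_lt⟩
    haveI := Fintype.ofFinite (Subgroup.centralizer (Subgroup.zpowers ((1 : D.P) : G) : Set G))
    have hcM := fun φ θ : IrrCharacter G =>
      D.A_eq_cM 1 (D.pow_exponent' hK 1) hK0 (D.isSection hK 1) φ θ
    have h := sum_normSq_cM_block (D.isSection hK 1) D.isPModular (D.isInducedBlock 1) χ
      (j := (1 : ZMod (p ^ K))) isUnit_one
    simp only [← hcM] at h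
    rw [D.A_self_eq_one hχ h0, mul_one] at h
    erw [← D.card_inf_centralizer 1] at h
    rw [
      show Subgroup.centralizer (Subgroup.zpowers ((1 : D.P) : G) : Set G) = ⊤ by
        refine eq_top_iff.2 fun g _ => ?_
        rw [Brauer.centralizer_zpowers_eq, Subgroup.mem_centralizer_singleton_iff]
        simp, inf_top_eq] at h
    apply Nat.cast_injective (R := ℂ)
    rw [← h, Nat.cast_sum, Finset.sum_subtype (p := fun φ => φ ∈ D.B.1) (Finset.univ.filter (· ∈ D.B.1)) (by simp)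
      (fun φ => (Complex.normSq (D.A 1 (χ : G → ℂ) (φ : G → ℂ)) : ℂ))]
    refine Finset.sum_congr rfl fun ψ _ => ?_
    rw [D.A_swap 1 ((ψ : IrrCharacter G) : G → ℂ) (χ : G → ℂ), hdeg ψ, map_natCast,
      Complex.normSq_natCast]
    push_cast
    ring
  have hsurj : Function.Surjective η := by
    intro θ
    by_contra hθ
    push Not at hθ
    have h1 := BlocksChar.sum_charDegree_sq (G := D.P)
    rw [← Finset.sum_erase_add _ _ (Finset.mem_univ θ)] at h1
    have h2 : ∑ ψ : D.B.1, charDegree (η ψ : D.P → ℂ) ^ 2 ≤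
        ∑ x ∈ Finset.univ.erase θ, charDegree (x : D.P → ℂ) ^ 2 := by
      rw [← Finset.sum_image (f := fun x : IrrCharacter D.P => charDegree (x : D.P → ℂ) ^ 2)
        (fun a _ b _ h => hinj h)]
      exact Finset.sum_le_sum_of_subset fun x hx => by
        obtain ⟨ψ, -, rfl⟩ := Finset.mem_image.1 hx
        exact Finset.mem_erase.2 ⟨hθ ψ, Finset.mem_univ _⟩
    have h3 : 0 < charDegree (θ : D.P → ℂ) ^ 2 :=
      pow_pos (Nat.pos_of_ne_zero (BlockVal.irr_one_eq_charDegree θ).2) 2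
    omega
  refine ⟨Equiv.ofBijective η ⟨hinj, hsurj⟩, fun ψ y hy => ?_⟩
  rw [D.regular_of_prop_one ψ.2 hχ (hP ψ 1) hy, hdeg ψ]
  rfl

end NilData

/-- The characters of a nilpotent block correspond to those of the defect group, with heights. -/
theorem exists_equiv_heights {G : Type u} [Group G] [Fintype G] (hM : IsPModular p M)
    {B : Set (IrrCharacter G)} (hnil : IsNilpotentBlock p M B) {P : Subgroup G}
    (hP : IsDefectGroup p M B P) :
    ∃ Φ : B ≃ IrrCharacter P, ∀ χ : B, blockHeight p B ((χ : IrrCharacter G) : G → ℂ) =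
      (charDegree ((Φ χ : IrrCharacter P) : P → ℂ)).factorization p := by
  have hB : IsPBlock M B := hnil.1
  obtain ⟨D, hDB, rfl⟩ := exists_nilData hM ⟨B, hB⟩ hnil hP
  obtain rfl : D.B.1 = B := by rw [hDB]
  obtain ⟨χ, hχ, h0⟩ := BlockVal.exists_height_zero (p := p) (Block.pBlock_nonempty D.B.2)
  obtain ⟨Φ, hΦ⟩ := D.exists_equiv hχ h0
  refine ⟨Φ, fun ψ => ?_⟩
  have h1 := hΦ ψ 1 (by simpa using (Fact.out : p.Prime).one_lt.ne')
  obtain ⟨e1, hd1⟩ := BlockVal.irr_one_eq_charDegree (ψ : IrrCharacter G)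
  obtain ⟨e2, hd2⟩ := BlockVal.irr_one_eq_charDegree χ
  have hd3 := (BlockVal.irr_one_eq_charDegree (Φ ψ)).2
  rw [e1, e2, ← Nat.cast_mul, Nat.cast_inj] at h1
  have hmin : sInf ((fun φ : IrrCharacter G => (charDegree (φ : G → ℂ)).factorization p) '' D.B.1) =
      (charDegree (χ : G → ℂ)).factorization p := by
    refine le_antisymm (Nat.sInf_le ⟨χ, hχ, rfl⟩) ?_
    rw [blockHeight] at h0
    omega
  rw [blockHeight, hmin, h1, Nat.factorization_mul hd3 hd2, Finsupp.add_apply,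
    Nat.add_sub_cancel_right]

end Cfsg.Agent.BrauerPairs.Nil
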